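import Groth.Agent.Reductive.MTRigidLift
import Groth.Agent.Reductive.MTLocTriv
import Groth.Agent.Reductive.MTSubTransporter
import Groth.Agent.Reductive.MultGa
import Groth.Agent.Reductive.FreeDiagScheme
import Groth.Agent.Agf.SubobjGrp
import Groth.Agent.AlgGrp1.Basic

/-!
The kernel of the `n`-th power map of a group of multiplicative type is of multiplicative type.
-/

set_option autoImplicit false
universe u

open CategoryTheory MonoidalCategory CartesianMonoidalCategory MonObj AlgebraicGeometry Limits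
open Groth.Reductive Groth.Reductive.FreeDiag Groth.Reductive.MTInt

noncomputable section

namespace Groth.Misc15.SubLift

/-- A natural bijection on points compatible with multiplication is an isomorphism of groups. -/
theorem grpIso_of_points {T : Scheme.{u}} {A B : Over T} [GrpObj A]
    [GrpObj B] (E : ∀ Z : Over T, (Z ⟶ A) ≃* (Z ⟶ B))
    (nat : ∀ {Z W : Over T} (w : W ⟶ Z) (x : Z ⟶ A), E W (w ≫ x) = w ≫ E Z x) :
    Nonempty (Grp.mk A ≅ Grp.mk B) := by
  let e : A ≅ B :=
    { hom := E A (𝟙 A)
      inv := (E B).symm (𝟙 B)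
      hom_inv_id := (E A).injective (by rw [nat, MulEquiv.apply_symm_apply, Category.comp_id])
      inv_hom_id := by rw [← nat, Category.comp_id, MulEquiv.apply_symm_apply] }
  haveI : IsMonHom e.hom := Groth.AlgGrp1.isMonHom_of_points _ fun Z a b => by
    show (a * b) ≫ E A (𝟙 A) = (a ≫ E A (𝟙 A)) * (b ≫ E A (𝟙 A))
    rw [← nat, ← nat, ← nat, Category.comp_id, Category.comp_id, Category.comp_id, map_mul]
  exact ⟨Grp.mkIso' e⟩

variable {S : Scheme.{u}} {H : Over S} [GrpObj H]

/-- The kernel of the `n`-th power map. -/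
theorem exists_powKer (hH : LocTriv H) (n : ℕ) :
    ∃ (K : Over S) (_ : GrpObj K) (a : K ⟶ H), IsMonHom a ∧ IsClosedImmersion a.left ∧
      ∀ (T : Over S) (x : T ⟶ H), (∃ z : T ⟶ K, z ≫ a = x) ↔ x ^ n = 1 := by
  haveI : IsAffineHom H.hom := hH.1
  haveI : IsClosedImmersion η[H].left := by
    haveI : IsClosedImmersion (η[H].left ≫ H.hom) := by
      rw [Over.w η[H]]
      exact MorphismProperty.id_mem @IsClosedImmersion _
    exact MorphismProperty.of_postcomp (W := @IsClosedImmersion) (W' := @IsSeparated) η[H].left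
      H.hom inferInstance inferInstance
  let p : H ⟶ H := 𝟙 H ^ n
  let K : Over S := Over.mk (pullback.fst p.left η[H].left ≫ H.hom)
  let a : K ⟶ H := Over.homMk (pullback.fst p.left η[H].left) rfl
  haveI : IsClosedImmersion a.left := inferInstanceAs (IsClosedImmersion (pullback.fst p.left η[H].left))
  haveI : Mono a := (Over.forget S).mono_of_mono_map (inferInstanceAs (Mono a.left))
  have hK : ∀ (T : Over S) (x : T ⟶ H), (∃ z : T ⟶ K, z ≫ a = x) ↔ x ^ n = 1 := by
    intro T x
    have hx : x ≫ p = x ^ n := by rw [MonObj.comp_pow, Category.comp_id]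
    constructor
    · rintro ⟨z, rfl⟩
      rw [← hx, Hom.one_def]
      refine Over.OverMorphism.ext ?_
      have hc : pullback.snd p.left η[H].left = K.hom := by
        have h1 := congrArg (· ≫ H.hom) (pullback.condition (f := p.left) (g := η[H].left))
        simp only [Category.assoc, Over.w] at h1
        exact ((Category.comp_id _).symm.trans h1.symm)
      show (z.left ≫ pullback.fst p.left η[H].left) ≫ p.left = (toUnit T).left ≫ η[H].left
      rw [Category.assoc, pullback.condition, hc, ← Category.assoc, Over.w z]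
      rfl
    · intro h
      have h1 : x.left ≫ p.left = T.hom ≫ η[H].left := by
        rw [← Over.comp_left, hx, h, Hom.one_def]
        rfl
      exact ⟨Over.homMk (pullback.lift x.left T.hom h1) (by
          show pullback.lift _ _ _ ≫ pullback.fst _ _ ≫ H.hom = _
          rw [pullback.lift_fst_assoc, Over.w]),
        Over.OverMorphism.ext (pullback.lift_fst _ _ _)⟩
  obtain ⟨inst, ha⟩ := Groth.Agf.exists_grpObj_of_subgroup a (fun T x => x ^ n = 1) hK
    (fun T => one_pow n)
    (fun T x y hx hy => by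
      rw [(show Commute x y from comm_of_locTriv hH T x y).mul_pow, hx, hy, _root_.one_mul])
    (fun T x hx => by rw [inv_pow, hx, inv_one])
  exact ⟨K, inst, a, ha, inferInstance, hK⟩

omit [GrpObj H] in
/-- The quotient of the characters by the `n`-th multiples. -/
theorem exists_lift_quot {M : Type} [AddCommGroup M] {A : Type u} [CommMonoid A] (n : ℕ)
    (c : Multiplicative M →* A) (hc : c ^ n = 1) :
    ∃ d : Multiplicative (M ⧸ (nsmulAddMonoidHom (α := M) n).range) →* A,
      d.comp (AddMonoidHom.toMultiplicative (QuotientAddGroup.mk' _)) = c := by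
  have hc' : ∀ m : M, c (Multiplicative.ofAdd (n • m)) = 1 := fun m => by
    have := DFunLike.congr_fun hc (Multiplicative.ofAdd m)
    rw [MonoidHom.pow_apply] at this
    rw [ofAdd_nsmul, map_pow]
    exact this
  have hwd : ∀ m m' : M, QuotientAddGroup.leftRel (nsmulAddMonoidHom (α := M) n).range m m' →
      c (Multiplicative.ofAdd m) = c (Multiplicative.ofAdd m') := fun m m' h => ?_
  refine ⟨{ toFun := fun y ↦ Quotient.liftOn' (Multiplicative.toAdd y) (fun m ↦ c (Multiplicative.ofAdd m)) hwd
            map_one' := c.map_one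
            map_mul' := fun x y => ?_ }, MonoidHom.ext fun m => rfl⟩
  rotate_left
  · obtain ⟨l, hl⟩ := QuotientAddGroup.leftRel_apply.1 h
    replace hl : n • l = -m + m' := hl
    have : m' = m + n • l := by rw [hl]; abel
    rw [this, ofAdd_add, map_mul, hc', _root_.mul_one]
  · change M ⧸ (nsmulAddMonoidHom (α := M) n).range at x y
    obtain ⟨a, rfl⟩ := QuotientAddGroup.mk_surjective x
    obtain ⟨b, rfl⟩ := QuotientAddGroup.mk_surjective y
    exact map_mul c _ _

/-- The kernel of the `n`-th power map is fpqc-locally diagonalisable. -/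
theorem locally_powKer {K : Over S} [GrpObj K] (n : ℕ) (a : K ⟶ H) [IsMonHom a] [Mono a]
    (hK : ∀ (T : Over S) (x : T ⟶ H), (∃ z : T ⟶ K, z ≫ a = x) ↔ x ^ n = 1)
    (hH : TwC.Locally S TwC.Topology.fpqc (fun S' f => ∃ (M : Type) (_ : AddCommGroup M),
      Nonempty (Grp.mk (Red.bc f H) ≅ Grp.mk (Red.DS S' M)))) :
    TwC.Locally S TwC.Topology.fpqc (fun S' f => ∃ (M : Type) (_ : AddCommGroup M),
      Nonempty (Grp.mk (Red.bc f K) ≅ Grp.mk (Red.DS S' M))) := by
  obtain ⟨S', f, h1, h2, h3, hloc⟩ := hH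
  refine ⟨S', f, h1, h2, h3, fun s' => ?_⟩
  obtain ⟨U, hU, M, iM, ⟨e⟩⟩ := hloc s'
  let g := U.ι ≫ f
  let N := (nsmulAddMonoidHom (α := M) n).range
  refine ⟨U, hU, M ⧸ N, inferInstance, ?_⟩
  let mk : Multiplicative M →* Multiplicative (M ⧸ N) := AddMonoidHom.toMultiplicative (QuotientAddGroup.mk' N)
  have hmk : Function.Surjective mk := fun y => by
    obtain ⟨m, hm⟩ := QuotientAddGroup.mk_surjective (Multiplicative.toAdd y)
    exact ⟨Multiplicative.ofAdd m, hm⟩
  let E0 : ∀ Z : Over (U : Scheme.{u}), (Z ⟶ Red.bc g H) ≃* (Multiplicative M →* Γ(Z.left, ⊤)) := fun Z =>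
    MulEquiv.trans
      { toFun := fun x => x ≫ e.hom.hom.hom
        invFun := fun x => x ≫ e.inv.hom.hom
        left_inv := fun x => by
          simp only [Category.assoc]
          rw [show e.hom.hom.hom ≫ e.inv.hom.hom = 𝟙 _ from congrArg (fun z => z.hom.hom) e.hom_inv_id,
            Category.comp_id]
        right_inv := fun x => by
          simp only [Category.assoc]
          rw [show e.inv.hom.hom ≫ e.hom.hom.hom = 𝟙 _ from congrArg (fun z => z.hom.hom) e.inv_hom_id,
            Category.comp_id]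
        map_mul' := fun x y => by
          haveI : IsMonHom e.hom.hom.hom := inferInstance
          exact MonObj.mul_comp x y e.hom.hom.hom }
      (dsValEquiv M Z)
  have hE0 : ∀ {Z W : Over (U : Scheme.{u})} (w : W ⟶ Z) (x : Z ⟶ Red.bc g H) (m : Multiplicative M),
      E0 W (w ≫ x) m = (w.left.appTop).hom (E0 Z x m) := fun w x m => by
    show dsVal ((w ≫ x) ≫ _) m = _
    rw [Category.assoc, dsVal_comp]
    rfl
  let F : ∀ Z : Over (U : Scheme.{u}), (Z ⟶ Red.bc g K) →* (Multiplicative M →* Γ(Z.left, ⊤)) := fun Z =>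
    { toFun := fun z => E0 Z ((bcPointEquiv g H Z).symm (bcPointEquiv g K Z z ≫ a))
      map_one' := by rw [map_one, MonObj.one_comp, map_one, map_one]
      map_mul' := fun x y => by rw [map_mul, MonObj.mul_comp, map_mul, map_mul] }
  let G : ∀ Z : Over (U : Scheme.{u}), (Z ⟶ Red.DS (U : Scheme.{u}) (M ⧸ N)) →*
      (Multiplicative M →* Γ(Z.left, ⊤)) := fun Z =>
    { toFun := fun w => (dsValEquiv (M ⧸ N) Z w).comp mk
      map_one' := by rw [map_one, MonoidHom.one_comp]
      map_mul' := fun x y => by rw [map_mul, MonoidHom.mul_comp] }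
  have hGinj : ∀ Z, Function.Injective (G Z) := fun Z x y h => by
    apply (dsValEquiv (M ⧸ N) Z).injective
    exact MonoidHom.ext fun q => by
      obtain ⟨m, rfl⟩ := hmk q
      exact DFunLike.congr_fun h m
  have hFinj : ∀ Z, Function.Injective (F Z) := fun Z x y h => by
    apply (bcPointEquiv g K Z).injective
    rw [← cancel_mono a]
    apply (bcPointEquiv g H Z).symm.injective
    exact (E0 Z).injective h
  have hFG : ∀ Z (z : Z ⟶ Red.bc g K), ∃ w, G Z w = F Z z := fun Z z => by
    have hp : (F Z z) ^ n = 1 := by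
      have h0 := (hK _ _).1 ⟨bcPointEquiv g K Z z, rfl⟩
      show (E0 Z _) ^ n = 1
      rw [← map_pow, ← map_pow, h0, map_one, map_one]
    obtain ⟨d, hd⟩ := exists_lift_quot n _ hp
    exact ⟨(dsValEquiv (M ⧸ N) Z).symm d, by
      show (dsValEquiv (M ⧸ N) Z ((dsValEquiv (M ⧸ N) Z).symm d)).comp mk = _
      rw [MulEquiv.apply_symm_apply]; exact hd⟩
  have hGF : ∀ Z (w : Z ⟶ Red.DS (U : Scheme.{u}) (M ⧸ N)), ∃ z, F Z z = G Z w := fun Z w => by
    obtain ⟨x, hx⟩ : ∃ x : Z ⟶ Red.bc g H, E0 Z x = G Z w := ⟨_, (E0 Z).apply_symm_apply _⟩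
    have hp : G Z w ^ n = 1 := MonoidHom.ext fun m => by
      show (dsValEquiv (M ⧸ N) Z w (mk m)) ^ n = 1
      rw [← map_pow, ← map_pow]
      have : mk (m ^ n) = 1 := by
        show Multiplicative.ofAdd (QuotientAddGroup.mk' N (n • Multiplicative.toAdd m)) = 1
        rw [show QuotientAddGroup.mk' N (n • Multiplicative.toAdd m) = 0 from
          (QuotientAddGroup.eq_zero_iff _).2 ⟨_, rfl⟩]
        rfl
      rw [this, map_one]
    have hxn : x ^ n = 1 := by
      apply (E0 Z).injective
      rw [map_pow, hx, hp, map_one]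
    obtain ⟨y, hy⟩ := (hK _ (bcPointEquiv g H Z x)).2 (by rw [← map_pow, hxn, map_one])
    refine ⟨(bcPointEquiv g K Z).symm y, ?_⟩
    show E0 Z _ = _
    rw [MulEquiv.apply_symm_apply, hy, MulEquiv.symm_apply_apply, hx]
  choose u hu using hFG
  choose v hv using hGF
  refine grpIso_of_points (fun Z => MulEquiv.mk' ⟨u Z, v Z, fun z => hFinj Z (by rw [hv, hu]),
    fun w => hGinj Z (by rw [hu, hv])⟩ fun x y => hGinj Z (by
      show G Z (u Z (x * y)) = G Z (u Z x * u Z y)
      rw [map_mul, hu, hu, hu, map_mul])) fun {Z W} w x => hGinj W (MonoidHom.ext fun m => ?_)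
  show G W (u W (w ≫ x)) m = dsVal (w ≫ u Z x) (mk m)
  rw [hu, dsVal_comp]
  show E0 W ((bcPointEquiv g H W).symm (bcPointEquiv g K W (w ≫ x) ≫ a)) m = _
  rw [show (bcPointEquiv g H W).symm (bcPointEquiv g K W (w ≫ x) ≫ a) =
      w ≫ (bcPointEquiv g H Z).symm (bcPointEquiv g K Z x ≫ a) from by
    apply (bcPointEquiv g H W).injective
    rw [MulEquiv.apply_symm_apply, bcPointEquiv_comp g H, MulEquiv.apply_symm_apply, bcPointEquiv_comp,
      Category.assoc], hE0]
  exact congrArg _ (DFunLike.congr_fun (hu Z x) m).symm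

end Groth.Misc15.SubLift
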