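import Groth.Agent.Misc15.SubLift.Pieces
import Groth.Agent.Sga3.DescendQuasi
import Groth.Agent.Sga3.HomLift
import Groth.Agent.Sga3.MultTypeModule
import Groth.Agent.AlgSp2.ThickLiftScheme
import Groth.Agent.FlatMor2.NilBaseChange

/-!
Subgroups of multiplicative type lift along nilpotent ideals, with all the structure.
-/

set_option autoImplicit false
universe u
open CategoryTheory CategoryTheory.Limits MonoidalCategory CartesianMonoidalCategory MonObj AlgebraicGeometry

noncomputable section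

namespace Groth.Misc15.SubLift

/-- Lifting a subgroup of multiplicative type along a nilpotent ideal. -/
theorem exists_lift_subgroup {R : Type u} [CommRing R] (J : Ideal R) (hJ : IsNilpotent J)
    (G : Over (Spec (CommRingCat.of R))) [GrpObj G] (hG : Smooth G.hom)
    (H₀ : Over (Spec (CommRingCat.of (R ⧸ J)))) [GrpObj H₀]
    (hH₀ : TwC.Locally (Spec (CommRingCat.of (R ⧸ J))) TwC.Topology.fpqc (fun S' f => ∃ (M : Type) (_ : AddCommGroup M), Nonempty (Grp.mk (Red.bc f H₀) ≅ Grp.mk (Red.DS S' M))))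
    (j₀ : H₀ ⟶ Red.bc (Spec.map (CommRingCat.ofHom (Ideal.Quotient.mk J))) G) [IsMonHom j₀] [IsImmersion j₀.left] :
    ∃ (H : Over (Spec (CommRingCat.of R))) (_ : GrpObj H) (j : H ⟶ G), IsMonHom j ∧ IsImmersion j.left ∧
      SGA3x.IsMultTypeFT H ∧
      ∃ φ : Red.bc (Spec.map (CommRingCat.ofHom (Ideal.Quotient.mk J))) H ≅ H₀, IsMonHom φ.hom ∧
        φ.hom ≫ j₀ = (Over.pullback (Spec.map (CommRingCat.ofHom (Ideal.Quotient.mk J)))).map j := by
  haveI hGft : LocallyOfFiniteType G.hom := inferInstance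
  let i := Spec.map (CommRingCat.ofHom (Ideal.Quotient.mk J))
  haveI : LocallyOfFiniteType H₀.hom := by
    rw [← Over.w j₀]
    exact MorphismProperty.comp_mem _ _ _ inferInstance
      (MorphismProperty.pullback_snd (P := @LocallyOfFiniteType) G.hom i hGft)
  have hM₀ := Groth.Misc15.SubLift.isMultTypeFT_of_locally H₀ hH₀
  have haff : IsAffineHom H₀.hom := (Groth.Reductive.MTInt.locTriv_of_multTypeFT hM₀).1
  haveI : IsAffine H₀.left := isAffine_of_isAffineHom H₀.hom
  have hnil : ∀ x ∈ J, IsNilpotent x := fun x hx => by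
    obtain ⟨n, hn⟩ := hJ
    exact ⟨n, by simpa [hn] using Ideal.pow_mem_pow hx n⟩
  obtain ⟨B, _, _, hB, ⟨e⟩⟩ := Groth.Sga3.Descend.exists_quasi_lift J hnil
    (Groth.Misc15.SemilocInj.Ob H₀) (Groth.Misc15.SubLift.isQuasiIsotrivial_Ob hM₀)
  haveI : Algebra.FiniteType (R ⧸ J) (Groth.Misc15.SemilocInj.Ob H₀) := by
    have h : LocallyOfFiniteType (Spec.map (CommRingCat.ofHom
        (algebraMap (R ⧸ J) (Groth.Misc15.SemilocInj.Ob H₀)))) := by
      rw [← Groth.Misc15.SemilocInj.isoSpec_inv_hom]; infer_instance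
    exact RingHom.finiteType_algebraMap.1 ((HasRingHomProperty.Spec_iff (P := @LocallyOfFiniteType)).1 h)
  haveI : Algebra.FiniteType (R ⧸ J) (TensorProduct R (R ⧸ J) B) :=
    Algebra.FiniteType.equiv inferInstance e.symm.toAlgEquiv
  haveI := Groth.Misc15.SubLift.finiteType_of_mod (B := B) J hJ
  have hMT : SGA3b.IsMultType R B := Groth.Sga3.HomLift.isMultType_of_quasi hB
  haveI : Module.Projective R B := Groth.Sga3.MultType.projective_of_isMultType hMT
  let H := CoactBr.sp R B
  have hH : Groth.Reductive.MTInt.LocTriv H :=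
    Groth.Reductive.MTInt.locTriv_of_multTypeFT (Groth.Reductive.MTCrit.isMultTypeFT_sp B hMT)
  haveI hflat : Flat H.hom := by
    show Flat (Spec.map _)
    rw [HasRingHomProperty.Spec_iff (P := @Flat)]
    exact RingHom.flat_algebraMap_iff.mpr inferInstance
  haveI : LocallyOfFiniteType H.hom := by
    show LocallyOfFiniteType (Spec.map _)
    rw [HasRingHomProperty.Spec_iff (P := @LocallyOfFiniteType)]
    exact RingHom.finiteType_algebraMap.mpr inferInstance
  obtain ⟨e₁, he₁⟩ := Groth.Misc15.SubLift.exists_spObIso H₀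
  obtain ⟨e₂, he₂⟩ := Groth.Misc15.SubLift.exists_spIso e.symm
  haveI := he₁
  haveI := he₂
  let b : CoactBr.sp (R ⧸ J) (TensorProduct R (R ⧸ J) B) ≅ Red.bc i H :=
    asIso (Groth.Reductive.MTCrit.bcMap (k := R) B (R ⧸ J))
  haveI : IsMonHom b.hom := Groth.Reductive.MTCrit.isMonHom_bcMap B (R ⧸ J)
  let φ : Red.bc i H ≅ H₀ := b.symm ≪≫ e₂ ≪≫ e₁
  haveI : IsMonHom φ.hom := by
    simp only [φ, Iso.trans_hom, Iso.symm_hom]
    infer_instance
  obtain ⟨j, hj, hjmap⟩ := Groth.Misc15.SubLift.exists_hom_lift_nilpotent J hJ hH hG (φ.hom ≫ j₀)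
  haveI hlft : LocallyOfFiniteType j.left := by
    haveI : LocallyOfFiniteType (j.left ≫ G.hom) := by rw [Over.w j]; infer_instance
    exact locallyOfFiniteType_of_comp j.left G.hom
  refine ⟨H, inferInstance, j, hj, ?_, Groth.Reductive.MTCrit.isMultTypeFT_sp B hMT, φ, ‹_›, hjmap.symm⟩
  have hthick : MoreMor.IsThickening i :=
    ⟨IsClosedImmersion.spec_of_surjective _ Ideal.Quotient.mk_surjective,
      ⟨Groth.AlgSp2.surjective_specMap_of_nil hnil⟩⟩
  have hG₀ := Groth.FlatMor2.isThickening_of_isPullback hthick (IsPullback.of_hasPullback G.hom i)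
  have hsq : IsPullback (Limits.pullback.fst H.hom i) ((Over.pullback i).map j).left j.left
      (Limits.pullback.fst G.hom i) := by
    refine IsPullback.of_bot (v₂₁ := Limits.pullback.snd G.hom i) (v₂₂ := G.hom) (h₃₁ := i) ?_
      (Limits.pullback.lift_fst _ _ _).symm (IsPullback.of_hasPullback G.hom i)
    rw [show ((Over.pullback i).map j).left ≫ Limits.pullback.snd G.hom i = Limits.pullback.snd H.hom i from
      Over.w ((Over.pullback i).map j), Over.w j]
    exact IsPullback.of_hasPullback H.hom i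
  refine (Groth.FlatMor2.isImmersion_iff_of_lft hG₀ hsq).1 ?_
  rw [hjmap]
  haveI : IsIso φ.hom.left := inferInstanceAs (IsIso ((Over.forget _).map φ.hom))
  exact inferInstanceAs (IsImmersion (φ.hom.left ≫ j₀.left))

end Groth.Misc15.SubLift
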