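import Groth.Agent.Misc15.HomMT.QuasiIso
import Groth.Agent.Reductive.MTCrit.Spec
import Groth.Agent.S8360

/-!
Pieces for lifting subgroups of multiplicative type along nilpotent ideals.
-/

set_option autoImplicit false
set_option linter.style.haveILetI false
set_option linter.unusedSectionVars false
set_option synthInstance.maxHeartbeats 200000

universe u

open CategoryTheory CategoryTheory.Limits MonoidalCategory CartesianMonoidalCategory MonObj AlgebraicGeometry
open scoped TensorProduct

noncomputable section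

namespace Groth.Misc15.SubLift

open Groth.Misc15.SemilocInj Groth.Misc15.TorusDvr Groth.Misc15.HomMT Groth.Reductive.MTInt

variable {R : Type u} [CommRing R]

local instance braidedAlgSpecHere (R : Type u) [CommRing R] : (algSpec (CommRingCat.of R)).Braided :=
  braidedAlgSpec

/-- An affine group is the spectrum of its functions. -/
theorem exists_spObIso (G : Over (Spec (CommRingCat.of R))) [GrpObj G] [IsAffine G.left] :
    ∃ e : CoactBr.sp R (Ob G) ≅ G, IsMonHom e.hom := by
  let e : CoactBr.sp R (Ob G) ≅ G := Over.isoMk G.left.isoSpec.symm (isoSpec_inv_hom G)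
  refine ⟨e, Groth.AlgGrp2.isMonHom_of_pt e.hom fun g h => ?_⟩
  obtain ⟨φ, rfl⟩ := Groth.AlgGrp2.pt_surjective g
  obtain ⟨ψ, rfl⟩ := Groth.AlgGrp2.pt_surjective h
  rw [CoactBr.pt_mul_pt]
  show (pl _ (univ G) : SemilocInj.Pt G (Ob G ⊗[R] Ob G)) = pl φ (univ G) * pl ψ (univ G)
  refine ptAlg_inj ?_
  rw [ptAlg_pl_univ, ← conv_ptAlg, ptAlg_pl_univ, ptAlg_pl_univ]
  rfl

/-- An isomorphism of Hopf algebras gives one of groups. -/
theorem exists_spIso {A C : Type u} [CommRing A] [HopfAlgebra R A] [CommRing C] [HopfAlgebra R C]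
    (ψ : A ≃ₐc[R] C) : ∃ e : CoactBr.sp R C ≅ CoactBr.sp R A, IsMonHom e.hom := by
  refine ⟨{ hom := CoactBr.pt ((ψ : A →ₐc[R] C) : A →ₐ[R] C)
            inv := CoactBr.pt ((ψ.symm : C →ₐc[R] A) : C →ₐ[R] A)
            hom_inv_id := by rw [← CoactBr.pt_comp, ← CoactBr.pt_id]; congr 1; ext x; simp
            inv_hom_id := by rw [← CoactBr.pt_comp, ← CoactBr.pt_id]; congr 1; ext x; simp }, ?_⟩
  exact Groth.Reductive.MTCrit.isMonHom_pt_bialg _

/-- The group `DS U M` is locally of finite type over nonempty `U` only for finitely generated `M`. -/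
theorem fg_of_lft_DS (U : Scheme.{u}) (x : U) (M : Type) [AddCommGroup M]
    (h : LocallyOfFiniteType (Red.DS U M).hom) : AddGroup.FG M := by
  let k : Type u := U.residueField x
  let q : Spec (CommRingCat.of k) ⟶ U := U.fromSpecResidueField x
  let D := Red.diag (ULift.{u} ℤ) M
  let t := IsTerminal.from specULiftZIsTerminal U
  have h1 : LocallyOfFiniteType (pullback.snd (pullback.snd D.hom t) q) :=
    MorphismProperty.pullback_snd _ _ h
  have h1' : LocallyOfFiniteType (pullback.snd D.hom (q ≫ t)) := by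
    rw [← pullbackLeftPullbackSndIso_inv_snd_snd D.hom t q,
      MorphismProperty.cancel_left_of_respectsIso @LocallyOfFiniteType]
    exact h1
  have hq : q ≫ t = IsTerminal.from specULiftZIsTerminal _ := specULiftZIsTerminal.hom_ext _ _
  have h2 : LocallyOfFiniteType (Red.DS (Spec (CommRingCat.of k)) M).hom := by
    show LocallyOfFiniteType (pullback.snd D.hom (IsTerminal.from specULiftZIsTerminal _))
    rw [← hq]
    exact h1'
  have h3 : LocallyOfFiniteType (Red.diag k M).hom := by
    rw [← Over.w (Groth.AlgGrp2.diagIsoDS k M).hom]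
    haveI := h2
    infer_instance
  have h4 : Algebra.FiniteType k (MonoidAlgebra k (Multiplicative M)) :=
    RingHom.finiteType_algebraMap.1 ((HasRingHomProperty.Spec_iff (P := @LocallyOfFiniteType)).1 h3)
  haveI : Group.FG (Multiplicative M) := MonoidAlgebra.finiteType_iff_group_fg.1 h4
  exact AddGroup.fg_iff_mul_fg.2 inferInstance

/-- Fpqc-locally diagonalisable groups of finite type are of multiplicative type and finite type. -/
theorem isMultTypeFT_of_locally {S : Scheme.{u}} (H : Over S) [GrpObj H] [LocallyOfFiniteType H.hom]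
    (hH : TwC.Locally S TwC.Topology.fpqc (fun S' f =>
      ∃ (M : Type) (_ : AddCommGroup M), Nonempty (Grp.mk (Red.bc f H) ≅ Grp.mk (Red.DS S' M)))) :
    SGA3x.IsMultTypeFT H := by
  obtain ⟨S', f, h1, h2, h3, hloc⟩ := hH
  refine ⟨S', f, h1, h2, h3, fun s' => ?_⟩
  obtain ⟨U, hU, M, iM, ⟨e⟩⟩ := hloc s'
  refine ⟨U, hU, M, iM, fg_of_lft_DS (U : Scheme.{u}) ⟨s', hU⟩ M ?_, ⟨e⟩⟩
  rw [← Over.w e.inv.hom.hom]
  haveI : IsIso e.inv.hom.hom.left :=
    inferInstanceAs (IsIso ((Over.forget _).map ((Grp.forget _).map e.inv)))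
  haveI : LocallyOfFiniteType (Red.bc (U.ι ≫ f) H).hom := MorphismProperty.pullback_snd _ _ inferInstance
  infer_instance

/-- A group of multiplicative type and finite type over an affine base is quasi-isotrivial. -/
theorem isQuasiIsotrivial_Ob {H : Over (Spec (CommRingCat.of R))} [GrpObj H] [IsAffine H.left]
    (hM : SGA3x.IsMultTypeFT H) : SGA3b.IsQuasiIsotrivial R (Ob H) := by
  refine ⟨{f | SGA3b.IsQuasiIsotrivialConst (Localization.Away f) (Localization.Away f ⊗[R] Ob H)}, ?_,
    fun f hf => hf⟩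
  by_contra hne
  obtain ⟨m, hm, hsm⟩ := Ideal.exists_le_maximal _ hne
  obtain ⟨E, _, _, het, ⟨q, hq, hqc⟩, ⟨τ⟩⟩ := exists_etale_triv hM m
  have hd := isDiag_of_chars (Chars.ofTriv τ)
  have hopen : IsOpenMap (PrimeSpectrum.comap (algebraMap R E)) :=
    PrimeSpectrum.isOpenMap_comap_of_hasGoingDown_of_finitePresentation
  obtain ⟨U, ⟨f, rfl⟩, hmf, hfr⟩ := PrimeSpectrum.isTopologicalBasis_basic_opens.exists_subset_of_mem_open
    (show (⟨m, hm.isPrime⟩ : PrimeSpectrum R) ∈ Set.range (PrimeSpectrum.comap (algebraMap R E)) from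
      ⟨⟨q, hq⟩, PrimeSpectrum.ext hqc⟩) hopen.isOpen_range
  refine hmf (hsm (Ideal.subset_span ?_))
  let Rf := Localization.Away f
  let Ef := Rf ⊗[R] E
  letI : Algebra E Ef := Algebra.TensorProduct.rightAlgebra
  haveI : IsScalarTower R E Ef := IsScalarTower.of_algebraMap_eq fun r => by
    change algebraMap R Ef r = (1 : Rf) ⊗ₜ[R] algebraMap R E r
    rw [Algebra.TensorProduct.algebraMap_apply, Algebra.algebraMap_eq_smul_one,
      Algebra.algebraMap_eq_smul_one, TensorProduct.smul_tmul]
  refine ⟨Ef, inferInstance, inferInstance, inferInstance, ?_,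
    Groth.Sga3.MultType.isDiag_of_equiv (Groth.Sga3.MultType.cancelBC R Rf Ef (Ob H)).symm
      (Groth.Sga3.MultType.isDiag_trans E Ef (Ob H) (Groth.Sga3.MultType.isDiag_baseChange Ef _ hd))⟩
  refine Module.FaithfullyFlat.of_comap_surjective fun P => ?_
  have hP : PrimeSpectrum.comap (algebraMap R Rf) P ∈ (PrimeSpectrum.basicOpen f : Set (PrimeSpectrum R)) := by
    rw [← PrimeSpectrum.localization_away_comap_range Rf f]
    exact ⟨P, rfl⟩
  obtain ⟨Q, hQ⟩ := hfr hP
  have hfQ : IsUnit (Algebra.ofId R Q.asIdeal.ResidueField f) := by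
    rw [isUnit_iff_ne_zero]
    intro h0
    have h1 : algebraMap R E f ∈ Q.asIdeal := by
      rw [← Ideal.algebraMap_residueField_eq_zero, ← IsScalarTower.algebraMap_apply]
      exact h0
    have h2 : f ∈ (PrimeSpectrum.comap (algebraMap R Rf) P).asIdeal := by
      rw [← hQ]; exact h1
    exact hP h2
  let F : Ef →ₐ[R] Q.asIdeal.ResidueField :=
    Algebra.TensorProduct.lift (IsLocalization.Away.liftAlgHom (f := Algebra.ofId R _) f hfQ)
      (IsScalarTower.toAlgHom R E Q.asIdeal.ResidueField) (fun _ _ => Commute.all _ _)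
  refine ⟨⟨RingHom.ker F, RingHom.ker_isPrime _⟩,
    PrimeSpectrum.localization_comap_injective Rf (Submonoid.powers f) (Eq.trans ?_ hQ)⟩
  refine PrimeSpectrum.ext (Ideal.ext fun r => ?_)
  simp only [PrimeSpectrum.comap_asIdeal, Ideal.mem_comap, RingHom.mem_ker]
  rw [← IsScalarTower.algebraMap_apply, AlgHom.commutes,
    IsScalarTower.algebraMap_apply R E Q.asIdeal.ResidueField, Ideal.algebraMap_residueField_eq_zero]

/-- Finite type lifts along nilpotent ideals. -/
theorem finiteType_of_mod {B : Type u} [CommRing B] [Algebra R B] (J : Ideal R) (hJ : IsNilpotent J)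
    [h : Algebra.FiniteType (R ⧸ J) ((R ⧸ J) ⊗[R] B)] : Algebra.FiniteType R B := by
  classical
  let π : B →ₐ[R] (R ⧸ J) ⊗[R] B := Algebra.TensorProduct.includeRight
  haveI : Algebra.FiniteType R ((R ⧸ J) ⊗[R] B) := Algebra.FiniteType.trans (S := R ⧸ J) inferInstance h
  obtain ⟨t, ht⟩ := (inferInstance : Algebra.FiniteType R ((R ⧸ J) ⊗[R] B)).out
  have hsurj : Function.Surjective π := fun z => by
    induction z using TensorProduct.induction_on with
    | zero => exact ⟨0, map_zero π⟩
    | tmul r b =>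
      obtain ⟨r, rfl⟩ := Ideal.Quotient.mk_surjective r
      refine ⟨r • b, ?_⟩
      show (1 : R ⧸ J) ⊗ₜ[R] (r • b) = _
      rw [← TensorProduct.smul_tmul, Algebra.smul_def, _root_.mul_one]
      rfl
    | add x y hx hy =>
      obtain ⟨a, rfl⟩ := hx
      obtain ⟨b, rfl⟩ := hy
      exact ⟨a + b, map_add π a b⟩
  choose l hl using hsurj
  let C : Submodule R B := (Algebra.adjoin R ((t.image l : Finset B) : Set B)).toSubmodule
  have hC : ⊤ ≤ C ⊔ J • (⊤ : Submodule R B) := fun b _ => by
    have hb : π b ∈ (Algebra.adjoin R ((t.image l : Finset B) : Set B)).map π := by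
      rw [AlgHom.map_adjoin, Finset.coe_image, ← Set.image_comp,
        show π ∘ l = id from funext hl, Set.image_id, ht]
      exact Algebra.mem_top
    obtain ⟨c, hc, hcb⟩ := hb
    refine Submodule.mem_sup.2 ⟨c, hc, b - c, ?_, add_sub_cancel _ _⟩
    have h1 : (1 : R ⧸ J) ⊗ₜ[R] (b - c) = 0 := by
      show π (b - c) = 0
      rw [map_sub]
      exact sub_eq_zero.2 hcb.symm
    have h2 := congrArg (TensorProduct.quotTensorEquivQuotSMul B J) h1
    rwa [map_zero, TensorProduct.quotTensorEquivQuotSMul_mk_one_tmul, Submodule.Quotient.mk_eq_zero] at h2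
  have key : ∀ k : ℕ, ⊤ ≤ C ⊔ (J ^ k) • (⊤ : Submodule R B) := fun k => by
    induction k with
    | zero => rw [pow_zero, Ideal.one_eq_top, Submodule.top_smul]; exact le_sup_right
    | succ k ih =>
      refine ih.trans (sup_le le_sup_left ((Submodule.smul_mono le_rfl hC).trans ?_))
      rw [Submodule.smul_sup, ← Submodule.mul_smul, ← pow_succ]
      exact sup_le (Submodule.smul_le_right.trans le_sup_left) le_sup_right
  obtain ⟨n, hn⟩ := hJ
  have := key n
  rw [hn, Ideal.zero_eq_bot, Submodule.bot_smul, sup_bot_eq] at this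
  exact ⟨⟨t.image l, eq_top_iff.2 fun b _ => this (Submodule.mem_top : b ∈ (⊤ : Submodule R B))⟩⟩

/-- Homomorphisms from groups of multiplicative type to smooth groups lift along nilpotent ideals. -/
theorem exists_hom_lift_nilpotent (J : Ideal R) (hJ : IsNilpotent J)
    {H X : Over (Spec (CommRingCat.of R))} [GrpObj H] [GrpObj X] (hH : LocTriv H) (hX : Smooth X.hom)
    (f₀ : Red.bc (Spec.map (CommRingCat.ofHom (Ideal.Quotient.mk J))) H ⟶
      Red.bc (Spec.map (CommRingCat.ofHom (Ideal.Quotient.mk J))) X) [IsMonHom f₀] :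
    ∃ f : H ⟶ X, IsMonHom f ∧
      (Over.pullback (Spec.map (CommRingCat.ofHom (Ideal.Quotient.mk J)))).map f = f₀ := by
  let S := Spec (CommRingCat.of R)
  let i : Spec (CommRingCat.of (R ⧸ J)) ⟶ S := Spec.map (CommRingCat.ofHom (Ideal.Quotient.mk J))
  let Y₀ : Over S := Over.mk i
  let φ₀ : H ⊗ Y₀ ⟶ X := Over.homMk (f₀.left ≫ pullback.fst X.hom i) (by
    have h1 : f₀.left ≫ pullback.snd X.hom i = pullback.snd H.hom i := Over.w f₀
    show (f₀.left ≫ pullback.fst X.hom i) ≫ X.hom = pullback.fst H.hom i ≫ H.hom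
    rw [Category.assoc, pullback.condition, reassoc_of% h1, pullback.condition])
  have hfam : IsHomFam φ₀ := by
    intro Z h h' y
    let W : Over (Spec (CommRingCat.of (R ⧸ J))) := Over.mk y.left
    let e : (Over.map i).obj W ≅ Z := Over.isoMk (Iso.refl _) (by simp [W]; exact (Over.w y).symm)
    have key : ∀ a : (Over.map i).obj W ⟶ H, lift a (e.hom ≫ y) ≫ φ₀ =
        Groth.Reductive.bcPointEquiv i X W ((Groth.Reductive.bcPointEquiv i H W).symm a ≫ f₀) := by
      intro a
      obtain ⟨b, rfl⟩ := (Groth.Reductive.bcPointEquiv i H W).surjective a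
      rw [MulEquiv.symm_apply_apply]
      apply Over.OverMorphism.ext
      have e1 : ∀ {K : Over S} [GrpObj K] (c : W ⟶ Red.bc i K),
          (Groth.Reductive.bcPointEquiv i K W c).left = c.left ≫ pullback.fst K.hom i := fun c => by
        simp [Groth.Reductive.bcPointEquiv, Adjunction.homEquiv_counit]
      rw [e1]
      have e2 : (lift (Groth.Reductive.bcPointEquiv i H W b) (e.hom ≫ y)).left = b.left := by
        apply pullback.hom_ext
        · exact (congrArg CommaMorphism.left
            (lift_fst (Groth.Reductive.bcPointEquiv i H W b) (e.hom ≫ y))).trans (e1 b)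
        · refine (congrArg CommaMorphism.left
            (lift_snd (Groth.Reductive.bcPointEquiv i H W b) (e.hom ≫ y))).trans ?_
          show (e.hom ≫ y).left = b.left ≫ pullback.snd H.hom i
          rw [show b.left ≫ pullback.snd H.hom i = y.left from Over.w b]
          exact Category.id_comp _
      show (lift (Groth.Reductive.bcPointEquiv i H W b) (e.hom ≫ y) : (Over.map i).obj W ⟶ H ⊗ Y₀).left ≫
          f₀.left ≫ pullback.fst X.hom i = (b.left ≫ f₀.left) ≫ _
      rw [e2, Category.assoc]
    rw [← cancel_epi e.hom, MonObj.comp_mul, comp_lift_assoc, comp_lift_assoc, comp_lift_assoc,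
      MonObj.comp_mul, key, key, key, map_mul, MonObj.mul_comp, map_mul]
  obtain ⟨φ, hφ, hφ0⟩ := Groth.Agent.S8360.exists_homFam_nilpotent hH hX J hJ φ₀ hfam
  let f : H ⟶ X := lift (𝟙 H) (toUnit H) ≫ φ
  have hf : IsMonHom f := Groth.AlgGrp1.isMonHom_of_points f fun T a b => by
    show (a * b) ≫ lift (𝟙 H) (toUnit H) ≫ φ = _
    simp only [f, comp_lift_assoc, Category.comp_id, comp_toUnit]
    exact hφ T a b (toUnit T)
  refine ⟨f, hf, Over.OverMorphism.ext (pullback.hom_ext ?_ ?_)⟩
  · refine (pullback.lift_fst _ _ _).trans ?_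
    have h2 : (H ◁ toUnit Y₀) ≫ φ = fst H Y₀ ≫ f := by
      simp only [f, comp_lift_assoc, Category.comp_id, comp_toUnit]
      congr 1
      ext1
      · rw [lift_fst, whiskerLeft_fst]
      · exact toUnit_unique _ _
    exact (congrArg CommaMorphism.left (hφ0.symm.trans h2)).symm
  · exact (pullback.lift_snd _ _ _).trans (Over.w f₀).symm

end Groth.Misc15.SubLift
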